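import Groth.Agent.Stk19b.GenInertia.Scheme
import Groth.Agent.Stk19b.Inertia.FiniteOfLocal
import Groth.Agent.Stk19b.OpenSub.Locus
import Groth.Agent.Stk19b.AffineDescent
import Groth.Agent.Stk19b.DMFaithful
import Groth.Agent.AlgSpLib.FpqcBaseIso

/-! A stack with affine unramified inertia has finite étale inertia over a nonempty open substack. -/

set_option autoImplicit false
set_option backward.isDefEq.respectTransparency false
set_option backward.isDefEq.respectTransparency.types false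

universe u

open CategoryTheory CategoryTheory.Limits AlgebraicGeometry Opposite FibCat Groth.Agent.Stk19 Groth.Agent.Desc19

namespace Groth.Agent.Stk19b

variable {S : Scheme.{u}} {𝒳 𝒴 : AlgSt.Cat S}

/-- The inclusion of the objects with points in an open set is an open immersion. -/
theorem isOpenImm_subIncl_inSet' (h𝒳 : IsFibGrpd 𝒳.p)
    {W : Set (AlgSt.Points 𝒳)} (hW : ∀ (U : Over S) (y : overCat U ⥤ᵇ 𝒳), IsOpen (AlgSt.Points.ofChart y ⁻¹' W)) : AlgSt.IsOpenImm (AlgSt.subIncl 𝒳 (inSet W)) := by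
  intro U y
  have h := h𝒳
  let O : U.left.Opens := ⟨AlgSt.Points.ofChart y ⁻¹' W, hW U y⟩
  let U' : Over S := Over.mk (O.ι ≫ U.hom)
  let u : U' ⟶ U := Over.homMk O.ι
  have hu : Mono u := (Over.forget S).mono_of_mono_map (inferInstanceAs (Mono O.ι))
  let z : overCat U' ⥤ᵇ 𝒳 := BasedFunctor.comp (AlgSt.overMap u) y
  have hz : ∀ a, inSet W (z.obj a) := fun a => (inSet_chart_iff h z a W).2 fun k => by
    rw [ofChart_overMap]
    exact (a.hom.left k).2
  let L : overCat U' ⥤ᵇ AlgSt.fullSub 𝒳 (inSet W) :=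
    { toFunctor := ObjectProperty.lift _ z.toFunctor hz
      w := z.w }
  let G : overCat U' ⥤ᵇ fp y (AlgSt.subIncl 𝒳 (inSet W)) :=
    fpLift (F := y) (G := AlgSt.subIncl 𝒳 (inSet W)) (AlgSt.overMap u) L (Iso.refl z)
  have hG : IsEquivOver G := by
    refine EqvData.isEquivOver ⟨⟨fun {a b} m => ?_⟩, ⟨fun {a b} f g hfg => ?_⟩, fun η => ?_⟩
    · have hw : m.hom.fst.left ≫ b.hom ≫ u = a.hom ≫ u := Over.w m.hom.fst
      let f : a ⟶ b := Over.homMk m.hom.fst.left ((cancel_mono u).1 (by rw [Category.assoc]; exact hw))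
      have hf : (AlgSt.overMap u).map f = m.hom.fst := Over.OverMorphism.ext rfl
      refine ⟨f, fp_hom_ext hf (ObjectProperty.hom_ext _ ?_)⟩
      have w := m.hom.w
      change y.map ((AlgSt.overMap u).map f) = m.hom.snd.hom
      rw [hf]
      exact (Category.comp_id _).symm.trans (w.trans (Category.id_comp _))
    · exact Over.OverMorphism.ext (congrArg (fun m => m.hom.fst.left) hfg)
    · let a := η.obj.fst
      have ha : ∀ k, a.hom.left k ∈ O := (inSet_chart_iff h y a W).1 (inSet_of_hom η.obj.iso.hom η.obj.snd.property)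
      have hr : Set.range a.hom.left ⊆ Set.range O.ι := by
        rintro _ ⟨k, rfl⟩
        rw [Scheme.Opens.range_ι]
        exact ha k
      let v : a.left ⟶ U' := Over.homMk (IsOpenImmersion.lift O.ι a.hom.left hr)
        (by simp [U', IsOpenImmersion.lift_fac_assoc])
      have hv : v ≫ u = a.hom := Over.OverMorphism.ext (IsOpenImmersion.lift_fac _ _ _)
      let i : (AlgSt.overMap u).obj (Over.mk v) ≅ a := Over.isoMk (Iso.refl _) (by
        show 𝟙 _ ≫ a.hom = v ≫ u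
        rw [Category.id_comp, hv])
      let j : L.obj (Over.mk v) ≅ η.obj.snd :=
        (ObjectProperty.ι (inSet W)).preimageIso (y.toFunctor.mapIso i ≪≫ η.obj.iso)
      let e : G.obj (Over.mk v) ≅ η := fpIsoMk i j (by
        show y.map i.hom ≫ η.obj.iso.hom = 𝟙 _ ≫ (ObjectProperty.ι (inSet W)).map j.hom
        exact ((Category.id_comp _).trans ((ObjectProperty.ι (inSet W)).map_preimage
          (X := L.obj (Over.mk v)) (Y := η.obj.snd) (y.toFunctor.mapIso i ≪≫ η.obj.iso).hom)).symm)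
      exact ⟨Over.mk v, e, (vert_iff (fp y (AlgSt.subIncl 𝒳 (inSet W))).p _).2 ⟨rfl, rfl, rfl⟩⟩
  refine ⟨⟨_, AlgSp.IsAlgSpace.yon_obj U'⟩, BasedFunctor.comp (AlgSt.toOverCat U') G,
    isEquivOver_comp (isEquivOver_toOverCat U') hG, ?_⟩
  change AlgSp.RepWith @IsOpenImmersion (AlgSt.spMapOfOver (BasedFunctor.comp (AlgSt.toOverCat U') (AlgSt.overMap u)))
  rw [spMapOfOver_overMap, spMapOfOver_toOverCat, Category.id_comp]
  exact (AlgSp.repWith_yon_map_iff @IsOpenImmersion u).2 (inferInstanceAs (IsOpenImmersion O.ι))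

/-- Preimages of the image of an open flat chart under all charts are open. -/
theorem isOpen_preimage_image (h : IsFibGrpd 𝒳.p) {U V : Over S} {x : overCat U ⥤ᵇ 𝒳}
    (hx : AlgSt.RepByAlgSpWith (AlgSp.LocP @Smooth) x) {A : Set ↥U.left} (hA : IsOpen A) (y : overCat V ⥤ᵇ 𝒳) :
    IsOpen (AlgSt.Points.ofChart y ⁻¹' (AlgSt.Points.ofChart x '' A)) := by
  obtain ⟨W, p, q, ⟨α⟩, hq, -, hsurj⟩ := exists_chart_fp h y (repByAlgSp1_of_with hx)
  have : Smooth q.left := hq AlgSpLib.etLocal_smooth hx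
  have e : AlgSt.Points.ofChart y ⁻¹' (AlgSt.Points.ofChart x '' A) = q.left '' (p.left ⁻¹' A) := by
    ext t
    constructor
    · rintro ⟨s, hs, hst⟩
      obtain ⟨w, rfl, rfl⟩ := hsurj s t hst
      exact ⟨w, hs, rfl⟩
    · rintro ⟨w, hw, rfl⟩
      exact ⟨p.left w, hw, ofChart_eq_of_iso α w⟩
  rw [e]
  exact q.left.isOpenMap _ (hA.preimage p.left.continuous)

/-- A map to the category of a scheme is the map of a morphism of schemes. -/
theorem exists_overMap_iso {W V : Over S} (y : overCat W ⥤ᵇ overCat V) :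
    ∃ c : W ⟶ V, Nonempty (y ≅ AlgSt.overMap c) := by
  let o : (overCat W).obj := Over.mk (𝟙 W)
  let c : W ⟶ V := eqToHom (y.w_obj o).symm ≫ (y.obj o).hom
  let t : y.obj o ≅ (AlgSt.overMap c).obj o := Over.isoMk (eqToIso (show (y.obj o).left = W from y.w_obj o)) (by
    show eqToHom (y.w_obj o : (y.obj o).left = W) ≫ 𝟙 W ≫ c = (y.obj o).hom
    exact (congrArg (eqToHom (y.w_obj o : (y.obj o).left = W) ≫ ·) (Category.id_comp c)).trans
      ((Category.assoc _ _ _).symm.trans ((congrArg (· ≫ (y.obj o).hom) (eqToHom_trans _ _)).trans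
        (Category.id_comp _))))
  obtain ⟨i, -⟩ := yoneda_iso (isFibGrpd_overCat V) y (AlgSt.overMap c) t
    (vert_change (overCat V).p _ (vert_of_map_eq (overCat V).p (h := y.w_obj o) rfl) (y.w_obj o))
  exact ⟨c, ⟨i⟩⟩

/-- Finite etale maps on spaces. -/
def FinEt : MorphismProperty (AlgSp.Sp S) := AlgSp.IsFiniteMor ⊓ AlgSp.IsEtaleMor

theorem respSrc_finEt : RespSrc (FinEt (S := S)) := fun X X' U hX hX' σ a ha =>
  ⟨respSrc_finite hX hX' σ a ha.1, fun T φ hφ => by
    rw [← Category.assoc]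
    exact ha.2 _ ((MorphismProperty.cancel_right_of_respectsIso _ φ σ.hom).2 hφ)⟩

theorem isLocalOnBase_finEt : AlgSp.IsLocalOnBase (AlgSp.IsFppfCover (S := S)) FinEt :=
  isLocalOnBase_fppf_of_fpqc
    (AlgSpLib.isLocalOnBase_and AlgSpLib.isLocalOnBase_fpqc_finite AlgSpLib.isLocalOnBase_fpqc_etale)

theorem finEt_of_repWith {X : AlgSp.Sp S} (hX : AlgSp.IsAlgSpace X) {W : Over S} {a : X ⟶ (AlgSp.yon S).obj W}
    (h₁ : AlgSp.RepWith @IsFinite a) (h₂ : AlgSp.RepWith @Etale a) : FinEt a := by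
  refine ⟨fun Z hZ g => ?_, ?_⟩
  · obtain ⟨T, w, fst, sq, hw⟩ := AlgSpLib.exists_yon_of_repWith h₁ g
    exact ⟨T, w, fst, sq, isAffine_of_isAffineHom w.left, hw⟩
  · exact (AlgSpLib.isEtaleMor_iff_locP AlgSpLib.etLocal_etale hX (AlgSp.IsAlgSpace.yon_obj W) a).2
      (AlgSpLib.locP_of_repWith AlgSpLib.etLocal_etale hX h₂)

theorem with_fpFst_of_witness {f : 𝒴 ⥤ᵇ 𝒳} {U V : Over S} (j : V ⟶ U) (x : overCat U ⥤ᵇ 𝒳)
    {F : AlgSp.Space S} {e : AlgSt.ofSp F.obj ⥤ᵇ fp x f} (he : IsEquivOver e)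
    (h : ∀ (T : Over S) (c : T ⟶ V),
      FinEt (pullback.snd (AlgSt.spMapOfOver (BasedFunctor.comp e (fpFst x f))) ((AlgSp.yon S).map (c ≫ j)))) :
    AlgSt.RepByAlgSpWith FinEt (fpFst (BasedFunctor.comp (AlgSt.overMap j) x) f) := fun T y => by
  set a := AlgSt.spMapOfOver (BasedFunctor.comp e (fpFst x f))
  obtain ⟨c, ⟨i⟩⟩ := exists_overMap_iso y
  have := id_full 𝒳
  have := id_faithful 𝒳
  let x' := BasedFunctor.comp (AlgSt.toOverCat U) x
  let E' : fp x f ⥤ᵇ fp x' f :=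
    fpMap (F' := x') (G' := f) (AlgSt.ofOverCat U) (BasedFunctor.id _) (BasedFunctor.id _)
      (Iso.refl _) (Iso.refl _)
  have hE' : IsEquivOver E' := isEquivOver_fpMap _ _ _ _ _ (isEquivOver_ofOverCat U) (isEquivOver_id _)
  obtain ⟨k⟩ := spHom_iso (BasedFunctor.comp (BasedFunctor.comp e (fpFst x f)) (AlgSt.ofOverCat U))
  let Q : AlgSp.Space S := ⟨pullback a ((AlgSp.yon S).map (c ≫ j)),
    isAlgSpace_pullback_yon (Z := ⟨_, AlgSp.IsAlgSpace.yon_obj U⟩) a ((AlgSp.yon S).map (c ≫ j))⟩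
  let y₂ := BasedFunctor.comp y (BasedFunctor.comp (AlgSt.overMap j) x)
  obtain ⟨k₂⟩ := overMap_comp c j
  obtain ⟨E, hE, hk⟩ := exists_chart_rep (y := y₂) x' (e := BasedFunctor.comp e E') (isEquivOver_comp he hE')
    (a := a) k (IsPullback.of_hasPullback a ((AlgSp.yon S).map (c ≫ j)))
    ((postB _ (BasedFunctor.comp (AlgSt.overMap j) x)).mapIso i ≪≫ (postB _ x).mapIso k₂)
  refine witness_transfer' (E := fpPaste y (BasedFunctor.comp (AlgSt.overMap j) x) f)
    (isEquivOver_fpPaste y (BasedFunctor.comp (AlgSt.overMap j) x) f) (eqToIso (fpPaste_fst _ _ _))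
    ⟨Q, E, hE, ?_⟩
  rw [hk]
  exact h T c

theorem exists_open_inertia_finEt (h𝒳 : IsFibGrpd 𝒳.p)
    (haff : AlgSt.RepByAlgSpWith AlgSp.IsAffineMor (inertiaToBase (toSelf 𝒳)))
    (hunr : AlgSt.RepByAlgSpWith (AlgSp.LocP (@LocallyOfFiniteType ⊓ @FormallyUnramified)) (inertiaToBase (toSelf 𝒳)))
    {U : Over S} [IsAffine U.left] [IsReduced U.left] [Nonempty U.left] {x : overCat U ⥤ᵇ 𝒳}
    (hx : AlgSt.RepByAlgSpWith (AlgSp.LocP @Smooth) x) :
    ∃ (𝒰 : AlgSt.Cat S) (j : 𝒰 ⥤ᵇ 𝒳), AlgSt.IsOpenImm j ∧ Nonempty (AlgSt.Points 𝒰) ∧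
      AlgSt.RepByAlgSpWith FinEt (inertiaToBase (toSelf 𝒰)) := by
  obtain ⟨F, e, he, ha⟩ := repByAlgSpWith_and (respSrc_locP AlgSpLib.etLocal_unramified) haff hunr U x
  set a := AlgSt.spMapOfOver (BasedFunctor.comp e (fpFst x (inertiaToBase (toSelf 𝒳))))
  obtain ⟨A, w, fA, sqA, hwA⟩ :=
    AlgSpLib.exists_yon_of_repWith ((AlgSpLib.isAffineMor_iff_repWith a).1 ha.1) (𝟙 _)
  have : IsIso fA := sqA.isIso_fst_of_isIso
  have hwu : (@LocallyOfFiniteType ⊓ @FormallyUnramified : MorphismProperty Scheme.{u}) w.left := by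
    refine (AlgSp.repWith_yon_map_iff _ w).1 ?_
    rw [show (AlgSp.yon S).map w = fA ≫ a by rw [sqA.w, Category.comp_id]]
    exact AlgSpLib.repWith_comp_of_locP AlgSpLib.etLocal_unramified (AlgSp.IsAlgSpace.yon_obj U) ha.2 fA
      (AlgSpLib.repWith_of_isIso _ fA)
  have := hwu.1
  have := hwu.2
  obtain ⟨V₀, j₀, hj₀, hne, hV⟩ := exists_open_finite_etale w.left
  let V : Over S := Over.mk (j₀ ≫ U.hom)
  let j : V ⟶ U := Over.homMk j₀
  let xV := BasedFunctor.comp (AlgSt.overMap j) x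
  have hfe : AlgSt.RepByAlgSpWith FinEt (fpFst xV (inertiaToBase (toSelf 𝒳))) :=
    with_fpFst_of_witness j x he fun T c => by
      have sq := ((IsPullback.of_hasPullback w j).map (Over.forget S))
      obtain ⟨h₁, h₂⟩ := hV _ _ sq
      have sq' := (IsPullback.of_hasPullback (pullback.snd w j) c).paste_horiz (IsPullback.of_hasPullback w j)
      have h₁' : IsFinite (pullback.snd (pullback.snd w j) c).left :=
        MorphismProperty.of_isPullback (P := @IsFinite)
          ((IsPullback.of_hasPullback (pullback.snd w j) c).map (Over.forget S)) h₁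
      have h₂' : Etale (pullback.snd (pullback.snd w j) c).left :=
        MorphismProperty.of_isPullback (P := @Etale)
          ((IsPullback.of_hasPullback (pullback.snd w j) c).map (Over.forget S)) h₂
      have sq'' := (sq'.map (AlgSp.yon S)).paste_horiz sqA
      rw [Category.comp_id] at sq''
      rw [← (IsPullback.of_hasPullback a ((AlgSp.yon S).map (c ≫ j))).isoIsPullback_hom_snd _ _ sq'']
      exact finEt_of_repWith (isAlgSpace_pullback_yon (Z := ⟨_, AlgSp.IsAlgSpace.yon_obj U⟩) a _)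
        ((MorphismProperty.cancel_left_of_respectsIso _ _ _).2 ((AlgSp.repWith_yon_map_iff _ _).2 h₁'))
        ((MorphismProperty.cancel_left_of_respectsIso _ _ _).2 ((AlgSp.repWith_yon_map_iff _ _).2 h₂'))
  have : Smooth j.left := (inferInstance : Smooth j₀)
  have hxV : AlgSt.RepByAlgSpWith (AlgSp.LocP @Smooth) xV :=
    with_comp_locP AlgSpLib.etLocal_smooth (isFibGrpd_overCat U) (smooth_overMap j) hx
  let T := AlgSt.Points.ofChart x '' Set.range j.left
  have hTo : ∀ (W : Over S) (y : overCat W ⥤ᵇ 𝒳), IsOpen (AlgSt.Points.ofChart y ⁻¹' T) := fun W y =>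
    isOpen_preimage_image h𝒳 hx j₀.isOpenEmbedding.isOpen_range y
  have hTV : ∀ b, inSet T (xV.obj b) := fun b => (inSet_chart_iff h𝒳 xV b T).2 fun k =>
    ⟨_, ⟨_, rfl⟩, (ofChart_overMap j x _).symm⟩
  let ι := AlgSt.subIncl 𝒳 (inSet T)
  have h𝒰 : IsFibGrpd (AlgSt.fullSub 𝒳 (inSet T)).p := fibGrpd_fullSub h𝒳 fun _ _ φ h => inSet_of_hom φ h
  let L : overCat V ⥤ᵇ AlgSt.fullSub 𝒳 (inSet T) :=
    { toFunctor := ObjectProperty.lift _ xV.toFunctor hTV
      w := xV.w }
  refine ⟨AlgSt.fullSub 𝒳 (inSet T), ι, isOpenImm_subIncl_inSet' h𝒳 hTo, ?_, ?_⟩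
  · obtain ⟨v⟩ := hne
    exact ⟨AlgSt.Points.ofChart L v⟩
  have hI₁ := repByAlgSp1_of_with haff
  have key : AlgSt.RepByAlgSpWith FinEt (fpFst ι (inertiaToBase (toSelf 𝒳))) := by
    refine with_of_lifting_family respSrc_finEt isLocalOnBase_finEt (repByAlgSp1_fpFst _ hI₁) fun W y t => ?_
    let y' := BasedFunctor.comp y ι
    obtain ⟨s, ⟨v, rfl⟩, hs⟩ : AlgSt.Points.ofChart y' t ∈ T := by
      rw [← range_subIncl_inSet T h𝒳]
      exact ⟨AlgSt.Points.ofChart y t, rfl⟩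
    obtain ⟨R, p, q, ⟨α⟩, hq, -, hsurj⟩ := exists_chart_fp h𝒳 y' (x := xV)
      (repByAlgSp1_of_with hxV)
    have : Smooth q.left := hq AlgSpLib.etLocal_smooth hxV
    obtain ⟨r, -, hr⟩ := hsurj v t ((ofChart_overMap j x v).trans hs)
    let A₁ := BasedFunctor.comp (AlgSt.overMap p) L
    let B₁ := BasedFunctor.comp (AlgSt.overMap q) y
    let β : A₁ ≅ B₁ := Groth.Agent.Stk19.isoMk
      (fun b => (ObjectProperty.ι (inSet T)).preimageIso (X := A₁.obj b) (Y := B₁.obj b) (appIso α b))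
      (fun b => vert_of_map_eq (AlgSt.fullSub 𝒳 (inSet T)).p
        (h := (A₁.w_obj b).trans (B₁.w_obj b).symm) (by
          show 𝒳.p.map ((ObjectProperty.ι (inSet T)).map ((ObjectProperty.ι (inSet T)).preimage _)) = _
          rw [Functor.map_preimage]
          haveI : 𝒳.p.IsHomLift (𝟙 ((overCat R).p.obj b)) (appIso α b).hom := based_vert α b
          exact (map_eq_of_vert 𝒳.p (R := (overCat R).p.obj b) _).trans rfl))
      (fun {b b'} φ => (ObjectProperty.ι (inSet T)).map_injective (by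
        rw [Functor.map_comp, Functor.map_comp, Functor.preimageIso_hom, Functor.map_preimage,
          Functor.preimageIso_hom, Functor.map_preimage]
        exact α.hom.toNatTrans.naturality φ))
    refine ⟨R, q, inferInstance, inferInstance, ⟨r, hr⟩, overCat V, L, AlgSt.overMap p, ⟨β⟩, ?_⟩
    exact (repByAlgSpWith_iff_of_square (f' := fpFst L (fpFst ι (inertiaToBase (toSelf 𝒳))))
      (f := fpFst (BasedFunctor.comp L ι) (inertiaToBase (toSelf 𝒳)))
      (a := fpPaste L ι (inertiaToBase (toSelf 𝒳))) (b := BasedFunctor.id _)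
      (isEquivOver_fpPaste _ _ _) (isEquivOver_id _) (eqToIso (fpPaste_fst _ _ _))).2 hfe
  refine (repByAlgSpWith_iff_of_square (f' := inertiaToBase (toSelf (AlgSt.fullSub 𝒳 (inSet T))))
      (f := fpFst ι (inertiaToBase (toSelf 𝒳))) (a := inertiaLift ι) (b := BasedFunctor.id _)
      (isEquivOver_inertiaLift ι h𝒰 fun u φ hφ => ⟨ι.toFunctor.preimage φ, ?_, ι.toFunctor.map_preimage φ⟩)
      (isEquivOver_id _) (eqToIso (based_ext rfl))).2 key
  show 𝒳.p.map (ι.toFunctor.map (ι.toFunctor.preimage φ)) = _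
  rw [ι.toFunctor.map_preimage]
  exact hφ

end Groth.Agent.Stk19b
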