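import Groth.Agent.FlatMorGeneric.Scheme
import Groth.Agent.FlatMorQF.Scheme
import Groth.Agent.Stk19.AlgSt.Unram
import Mathlib.AlgebraicGeometry.Morphisms.Etale

/-! A quasi-compact separated unramified morphism to a reduced scheme is finite étale over a dense open. -/

set_option autoImplicit false
set_option backward.isDefEq.respectTransparency.types false

universe u

open CategoryTheory CategoryTheory.Limits AlgebraicGeometry Topology

namespace Groth.Agent.Stk19b

theorem exists_open_finite_etale {A U : Scheme.{u}} (f : A ⟶ U) [IsReduced U] [Nonempty U]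
    [LocallyOfFiniteType f] [FormallyUnramified f] [QuasiCompact f] :
    ∃ (W : Scheme.{u}) (j : W ⟶ U), IsOpenImmersion j ∧ Nonempty W ∧
      ∀ {B : Scheme.{u}} (fst : B ⟶ A) (snd : B ⟶ W), IsPullback fst snd f j → IsFinite snd ∧ Etale snd := by
  obtain ⟨U₁, h₁, hflat, hlfp⟩ := FlatMorGeneric.exists_dense_flat_lfp f
  let g := f ∣_ U₁
  have hu : FormallyUnramified g :=
    MorphismProperty.of_isPullback (P := @FormallyUnramified) (isPullback_morphismRestrict f U₁).flip ‹_›
  have hlf : LocallyOfFiniteType g := inferInstance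
  have : LocallyQuasiFinite g := Stk19.locallyQuasiFinite_of_unramified g
  have hqc : QuasiCompact g :=
    MorphismProperty.of_isPullback (P := @QuasiCompact) (isPullback_morphismRestrict f U₁).flip ‹_›
  obtain ⟨U₂, h₂, hfin⟩ := FlatMorQF.exists_dense_isFinite g
  have hflat : Flat g := hflat
  have hlfp : LocallyOfFinitePresentation g := hlfp
  have het : Etale g := Etale.iff_flat_and_formallyUnramified.2 ⟨hflat, hu, hlfp⟩
  have het' : Etale (g ∣_ U₂) :=
    MorphismProperty.of_isPullback (P := @Etale) (isPullback_morphismRestrict g U₂).flip het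
  have sq := (isPullback_morphismRestrict g U₂).flip.paste_horiz (isPullback_morphismRestrict f U₁).flip
  refine ⟨U₂.toScheme, U₂.ι ≫ U₁.ι, inferInstance, ?_, fun {B} fst snd h => ?_⟩
  · obtain ⟨x, hx⟩ := h₁.nonempty
    have : Nonempty U₁.toScheme := ⟨⟨x, hx⟩⟩
    obtain ⟨y, hy⟩ := h₂.nonempty
    exact ⟨⟨y, hy⟩⟩
  · have e : snd = (h.isoIsPullback _ _ sq).hom ≫ g ∣_ U₂ := (h.isoIsPullback_hom_snd _ _ sq).symm
    rw [e]
    exact ⟨(MorphismProperty.cancel_left_of_respectsIso @IsFinite _ _).2 hfin,
      (MorphismProperty.cancel_left_of_respectsIso @Etale _ _).2 het'⟩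

end Groth.Agent.Stk19b
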